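import Cfsg.Agent.TID.Ip.Idx
import Cfsg.Agent.TID.Box.Quot
import Cfsg.Agent.H571.SylowNumber
import Cfsg.Agent.H142.McKayCount
import Cfsg.Agent.H261.TI.RowSzMain
import Cfsg.Agent.H270.Crit.LTwo
import Cfsg.Agent.H431.PSLTwoSpec

/-!
# S4622, the rows `PSL₂(8) : 3` and `Sz(32) : 5` (helper31)

* `concl_idx` : a normal subgroup of index `p` whose Sylow subgroups have order `p ^ 2`;
* `sl28`, `ssz32` : the rows.
-/

set_option autoImplicit false

namespace Cfsg.Agent.TID.Ip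

open Cfsg Subgroup Cfsg.Agent.Characters.Core
open Cfsg.Agent.TID.Blk (Nm Concl)
open Cfsg.Agent.TID.Syl (nu cN)
open Cfsg.Agent.H622.Over (Lies)
open Cfsg.Agent.H681.TI (DZ)

universe u

variable {p : ℕ} [hp : Fact p.Prime] {G : Type u} [Group G] [Finite G] {M : Ideal AlgInt}

omit [Finite G] in
theorem mem_of_reg {K : Subgroup G} [K.Normal] (hi : K.index = p) {x : G} (hx : ¬ p ∣ orderOf x) : x ∈ K := by
  have h1 : orderOf (QuotientGroup.mk' K x) ∣ p := hi ▸ orderOf_dvd_natCard _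
  rcases (Nat.dvd_prime hp.out).1 h1 with h2 | h2
  · exact (QuotientGroup.eq_one_iff x).1 (orderOf_eq_one_iff.1 h2)
  · exact absurd (h2 ▸ orderOf_map_dvd _ x) hx

/-- **A normal subgroup of index `p`.** -/
theorem concl_idx (hM : IsPModular p M) (P : Sylow p G) (hTI : TI (P : Subgroup G)) {Z K : Subgroup G} [hK : K.Normal]
    (hZc : Z ≤ center G) (hZ : ¬ p ∣ Nat.card Z) (hZK : Z ≤ K) (hi : K.index = p) (h2 : (Nat.card K).factorization p = 2)
    (hC : ∀ w ∈ K, ∀ x ∈ K, orderOf w = p → w * x = x * w → ¬ p ∣ orderOf x → x ∈ Z)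
    {B : Set (IrrCharacter G)} (hB : IsPBlock M B) (hBP : IsDefectGroup p M B P) : Concl p M B (P : Subgroup G) := by
  have hMp := hM.2.1.isPrime
  obtain ⟨Q, hQ⟩ := H571.SylowNumber.exists_sylow_inf P K
  have hQm : ∀ k : K, k ∈ (Q : Subgroup K) ↔ (k : G) ∈ (P : Subgroup G) := fun k => by rw [hQ, mem_subgroupOf]
  have hQc : Nat.card (Q : Subgroup K) = p ^ 2 := by rw [Q.card_eq_multiplicity, h2]
  obtain ⟨⟨w, hwQ⟩, hw⟩ := exists_prime_orderOf_dvd_card' (G := (Q : Subgroup K)) p (by rw [hQc]; exact dvd_pow_self p two_ne_zero)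
  rw [← orderOf_coe, ← orderOf_coe] at hw
  change orderOf (w : G) = p at hw
  have hw1 : (w : G) ≠ 1 := fun h => hp.out.one_lt.ne (by rw [← hw, h, orderOf_one])
  have hwP := (hQm w).1 hwQ
  have h3 : (Nat.card G).factorization p = 3 := by
    rw [← K.card_mul_index, hi, Nat.factorization_mul Nat.card_pos.ne' hp.out.ne_zero, Finsupp.add_apply, h2,
      hp.out.factorization_self]
  have hP1 : (P : Subgroup G) ≠ ⊥ := fun h => hw1 (by rwa [h, mem_bot] at hwP)
  have hQ1 : (Q : Subgroup K) ≠ ⊥ := fun h => hw1 (by rw [h, mem_bot] at hwQ; rw [hwQ, coe_one])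
  have hCG : ∀ x ∈ centralizer ((P : Subgroup G) : Set G), ¬ p ∣ orderOf x → x ∈ Z := fun x hx hxo =>
    hC w w.2 x (mem_of_reg hi hxo) hw (mem_centralizer_iff.1 hx w hwP) hxo
  have hCK : ∀ x ∈ centralizer ((Q : Subgroup K) : Set K), ¬ p ∣ orderOf x → x ∈ Z.subgroupOf K := fun x hx hxo =>
    hC w w.2 x x.2 hw (congrArg Subtype.val (mem_centralizer_iff.1 hx w hwQ)) (by rwa [orderOf_coe])
  have hN : ∀ k : K, (k : G) ∈ Nm (P : Subgroup G) → k ∈ Nm (Q : Subgroup K) := by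
    intro k hk
    rw [mem_normalizer_iff]
    intro x
    rw [hQm, hQm]
    exact mem_normalizer_iff.1 hk x
  have hN' : ∀ k : K, k ∈ Nm (Q : Subgroup K) → (k : G) ∈ Nm (P : Subgroup G) := fun k hk =>
    hTI.mem' hwP hw1 ((hQm _).1 (conj_mem hk hwQ))
  have hTQ : TI (Q : Subgroup K) := ti_of_mem fun x g hx hx1 hg =>
    hN g (hTI.mem ((hQm x).1 hx) (fun h => hx1 (Subtype.ext h)) ((hQm _).1 hg))
  have hZK' : Z.subgroupOf K ≤ center K := fun x hx => mem_center_iff.2 fun y => Subtype.ext (mem_center_iff.1 (hZc hx) y)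
  have hZ' : ¬ p ∣ Nat.card (Z.subgroupOf K) := by rwa [Nat.card_congr (subgroupOfEquivOfLe hZK).toEquiv]
  let L : Subgroup (Nm (P : Subgroup G)) := K.subgroupOf (Nm (P : Subgroup G))
  have hLi : L.index = p := by
    rcases (Nat.dvd_prime hp.out).1 (hi ▸ relIndex_dvd_index_of_normal K (Nm (P : Subgroup G))) with h | h
    · exfalso
      have h4 := card_dvd_of_le (le_normalizer.trans (relIndex_eq_one.1 h))
      rw [P.card_eq_multiplicity, h3, hp.out.pow_dvd_iff_le_factorization Nat.card_pos.ne', h2] at h4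
      omega
    · exact h
  let e : Nm (Q : Subgroup K) ≃* L :=
    { toFun := fun n => ⟨⟨(n : K), hN' _ n.2⟩, (n : K).2⟩
      invFun := fun l => ⟨⟨(l : Nm (P : Subgroup G)), l.2⟩, hN _ (l : Nm (P : Subgroup G)).2⟩
      left_inv := fun _ => rfl
      right_inv := fun _ => rfl
      map_mul' := fun _ _ => rfl }
  have hQab : ∀ x ∈ (Q : Subgroup K), ∀ y ∈ (Q : Subgroup K), x * y = y * x := fun x hx y hy =>
    congrArg Subtype.val ((IsPGroup.isMulCommutative_of_card_eq_prime_sq hQc).1.1 ⟨x, hx⟩ ⟨y, hy⟩)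
  have hK0 : ∀ θ : IrrCharacter K, ¬ DZ p (θ : K → ℂ) → nu p (θ : K → ℂ) = 0 :=
    Syl.nu_zero_of_small Q (H681.TI.inf_eq_of_ti Q hTQ) h2.le
  have hG1 : ∀ χ : IrrCharacter G, ¬ DZ p (χ : G → ℂ) → nu p (χ : G → ℂ) ≤ 1 := by
    intro χ hχ
    have h4 := H681.TI.full_or_dz hM P (H681.TI.inf_eq_of_ti P hTI) χ hχ
    have h5 := ((S4710.result p M hM _ ⟨χ, rfl⟩ _ h4).2 χ (Blocks.Basic.mem_blockOf_self χ)).2 (by omega)
    have h6 := Blk.fact_degree (p := p) (Blocks.Basic.mem_blockOf_self (M := M) χ)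
    unfold Syl.nu
    omega
  refine Syl.concl_of_counts hM P hP1 hTI hZc hZ hCG hB hBP fun c h h0 hh => ?_
  obtain ⟨a1, a2⟩ := idx hi (fun χ => Ov (MonoidHom.id G) c (χ : G → ℂ) ∧ ¬ DZ p (χ : G → ℂ))
    (fun θ => Ov ((MonoidHom.id G).comp K.subtype) c (θ : K → ℂ) ∧ ¬ DZ p (θ : K → ℂ)) (fun θ hθ => hK0 θ hθ.2)
    fun χ θ hcon => and_congr (ov_iff (fun w hw => ⟨hZc hw, hZK hw⟩) c hcon) (by
      have h4 := hcon.nu hi
      have h5 := hK0 θ
      have h6 := hG1 χ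
      unfold DZ Syl.nu at *
      omega)
  obtain ⟨b1, b2⟩ := idx hLi (fun ψ => Ov (Nm (P : Subgroup G)).subtype c (ψ : Nm (P : Subgroup G) → ℂ))
    (fun θ => Ov ((Nm (P : Subgroup G)).subtype.comp L.subtype) c (θ : L → ℂ))
    (fun θ _ => by
      have h4 := Syl.nu_zero_of_comm Q hQab (isIrr_comp e.toMonoidHom e.surjective θ.2)
      exact h4)
    fun ψ θ hcon => ov_iff (fun w hw => ⟨Syl.central_sub _ hZc hw, hZK hw⟩) c hcon
  have l1 : ∀ χ : G → ℂ, Lies Z c χ ↔ Ov (MonoidHom.id G) c χ := fun χ =>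
    ⟨fun h y w hw => h y ⟨w, hw⟩, fun h y w => h y w w.2⟩
  have l2 : ∀ ψ : Nm (P : Subgroup G) → ℂ, Lies (Z.subgroupOf (Nm (P : Subgroup G))) (cN P c) ψ ↔
      Ov (Nm (P : Subgroup G)).subtype c ψ := fun ψ => ⟨fun h y w hw => h y ⟨w, hw⟩, fun h y w => h y w w.2⟩
  let c' : Z.subgroupOf K →* ℂˣ := c.comp ((K.subtype.comp (Z.subgroupOf K).subtype).codRestrict Z fun x => x.2)
  have c1 := Syl.count_lies P hP1 hTI hZc hZ hCG c
  have c2 := Syl.count_lies Q hQ1 hTQ hZK' hZ' hCK c'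
  rw [Nat.card_congr (Equiv.subtypeEquivRight fun χ : IrrCharacter G => and_congr_left' (l1 (χ : G → ℂ))),
    Nat.card_congr (Equiv.subtypeEquivRight fun ψ : IrrCharacter (Nm (P : Subgroup G)) => l2 ψ)] at c1
  have c3 : Nat.card {θ : IrrCharacter K // Ov ((MonoidHom.id G).comp K.subtype) c (θ : K → ℂ) ∧ ¬ DZ p (θ : K → ℂ)} =
      Nat.card {θ : IrrCharacter L // Ov ((Nm (P : Subgroup G)).subtype.comp L.subtype) c (θ : L → ℂ)} := by
    refine (Nat.card_congr (Equiv.subtypeEquivRight fun θ => and_congr_left' ?_)).trans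
      (c2.trans (Nat.card_congr ((H142.McKayCount.irrEquiv e).subtypeEquiv fun θ => ?_)).symm)
    · exact ⟨fun h y w => h y w w.2, fun h y w hw => h y ⟨w, hw⟩⟩
    · exact ⟨fun h y w => h (e y) (e w) w.2, fun h y w hw => h (e.symm y) ⟨e.symm w, hw⟩⟩
  rw [Nat.card_congr (Equiv.subtypeEquivRight (q := fun χ : IrrCharacter G =>
      (Ov (MonoidHom.id G) c (χ : G → ℂ) ∧ ¬ DZ p (χ : G → ℂ)) ∧ nu p (χ : G → ℂ) = h) fun χ => ?_),
    Nat.card_congr (Equiv.subtypeEquivRight fun ψ : IrrCharacter (Nm (P : Subgroup G)) => and_congr_left' (l2 ψ))]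
  · rcases eq_or_ne h 1 with rfl | h1
    · rw [c3, c1] at a2
      have h4 : 1 < p ^ 2 := Nat.one_lt_pow two_ne_zero hp.out.one_lt
      obtain ⟨q, hq⟩ := Nat.exists_eq_add_of_lt h4
      rw [hq] at a2 b2
      refine Nat.eq_of_mul_eq_mul_left (show 0 < q + 1 by omega) ?_
      linarith
    · rw [Nat.card_eq_zero.2 (Or.inl ⟨fun χ => by have := a1 _ χ.2.1; have := χ.2.2; omega⟩),
        Nat.card_eq_zero.2 (Or.inl ⟨fun ψ => by have := b1 _ ψ.2.1; have := ψ.2.2; omega⟩)]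
  · rw [l1, and_assoc]
    refine and_congr_right fun _ => ⟨fun h4 => ⟨fun h5 => ?_, h4⟩, fun h4 => h4.2⟩
    unfold DZ at h5
    unfold Syl.nu at h4
    omega

/-- the rows -/
theorem concl_row {S : Subgroup (G ⧸ pPrimeCore p G)} {B : Set (IrrCharacter G)} (P : Sylow p G) (hS : Cen p S)
    (hyp : Hyp p M B (P : Subgroup G)) (hPS : ¬ img p (P : Subgroup G) ≤ S) {Y : Type} [Group Y] (e : S ≃* Y)
    (ho : Nat.card (Cfsg.Out Y) = p) (h2 : (Nat.card Y).factorization p = 2)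
    (hY : ∀ w x : Y, orderOf w = p → w * x = x * w → ¬ p ∣ orderOf x → x = 1) : Concl p M B (P : Subgroup G) := by
  have hn := hS.soc.normal
  have hq := Box.cq_core hS.cen
  let mk := QuotientGroup.mk' (pPrimeCore p G)
  have hZ : ¬ p ∣ Nat.card (pPrimeCore p G) := not_dvd_core G
  have hi : S.index = p := by
    have h1 := H816.OutEmb.index_dvd S (by rw [hS.soc.cent]; exact bot_le)
    obtain ⟨f⟩ := H816.OutEmb.out_congr e
    rw [Nat.card_congr f.toEquiv, ho] at h1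
    refine ((Nat.dvd_prime hp.out).1 h1).resolve_left fun h => hPS ?_
    rw [index_eq_one.1 h]
    exact le_top
  have hZK : pPrimeCore p G ≤ S.comap mk := by
    intro z hz
    change mk z ∈ S
    rw [show mk z = 1 from (QuotientGroup.eq_one_iff _).2 hz]
    exact one_mem S
  have hi' : (S.comap mk).index = p := by rw [index_comap_of_surjective _ hq.surj, hi]
  refine concl_idx hyp.modu P hyp.ti hS.cen hZ hZK hi' ?_ ?_ hyp.blk hyp.dfc
  · have h1 := (S.comap mk).card_mul_index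
    have h3 := S.card_mul_index
    rw [card_eq_card_quotient_mul_card_subgroup (pPrimeCore p G), ← h3, hi', hi, mul_right_comm] at h1
    rw [Nat.eq_of_mul_eq_mul_right hp.out.pos h1, Nat.factorization_mul Nat.card_pos.ne' Nat.card_pos.ne',
      Finsupp.add_apply, Nat.factorization_eq_zero_of_not_dvd hZ, add_zero, Nat.card_congr e.toEquiv, h2]
  · intro w hw x hx hwo hwx hxo
    have h1 : mk w ≠ 1 := fun h => by
      have h0 := (pPrimeCore p G).orderOf_dvd_natCard ((QuotientGroup.eq_one_iff w).1 h)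
      rw [hwo] at h0
      exact hZ h0
    have h3 : orderOf (e ⟨mk w, hw⟩) = p := by
      rw [MulEquiv.orderOf_eq, ← orderOf_coe]
      exact orderOf_eq_prime (by rw [← map_pow, show w ^ p = 1 from hwo ▸ pow_orderOf_eq_one w, map_one]) h1
    have h4 := hY _ (e ⟨mk x, hx⟩) h3 (by
      rw [← map_mul, ← map_mul]
      exact congrArg e (Subtype.ext (by change mk w * mk x = mk x * mk w; rw [← map_mul, hwx, map_mul]))) (by
      rw [MulEquiv.orderOf_eq, ← orderOf_coe]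
      exact fun h => hxo (h.trans (orderOf_map_dvd mk x)))
    rw [map_eq_one_iff e e.injective] at h4
    exact (QuotientGroup.eq_one_iff x).1 (congrArg Subtype.val h4)

/-- **The row `PSL₂(8) : 3`.** -/
theorem sl28 : SL28.{u} := by
  rintro p _ G _ _ S M B P hS hyp - ⟨hPS, rfl, F, _, _, hF, ⟨e⟩⟩
  have : Fact (Nat.Prime 2) := ⟨Nat.prime_two⟩
  have hF' : Fintype.card F = 2 ^ 3 := by rw [hF]; norm_num
  have hch : CharP F 2 := charP_of_card_eq_prime_pow hF'
  refine concl_row P hS hyp hPS e (H270.Crit.LTwo.card_out (by norm_num) hF' (by norm_num)) ?_ fun w x hw hwx hx => ?_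
  · have h0 : Nat.card (Matrix.ProjectiveSpecialLinearGroup (Fin 2) F) = 3 ^ 2 * 56 := by
      have h1 := ClassicalGeometry.PSL2Basic.card_PSL2_even (F := F) (by rw [hF]; decide)
      rw [hF] at h1
      convert h1 using 1
      norm_num
    rw [h0,
      Nat.factorization_mul (by norm_num) (by norm_num), Nat.factorization_pow, Finsupp.add_apply, Finsupp.smul_apply,
      Nat.prime_three.factorization_self, Nat.factorization_eq_zero_of_not_dvd (by norm_num : ¬ 3 ∣ 56)]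
    rfl
  · have h1 := (show Commute w x from hwx).orderOf_mul_eq_mul_orderOf_of_coprime
      (by rw [hw]; exact (Nat.Prime.coprime_iff_not_dvd Nat.prime_three).2 hx)
    have h2 := H431.PSLTwoSpec.orderOf_cases (p := 2) (d := 1) (k₁ := 7) (k₂ := 9) (Or.inl rfl) (by rw [hF]) (by rw [hF])
      (w * x)
    rw [h1, hw] at h2
    rcases h2 with h2 | h2 | h2
    · exact absurd (Dvd.dvd.trans (Dvd.intro _ rfl) h2) (by norm_num)
    · exact absurd (Dvd.dvd.trans (Dvd.intro _ rfl) h2) (by norm_num)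
    · have h3 : orderOf x ∣ 3 := Nat.dvd_of_mul_dvd_mul_left (by norm_num : 0 < 3) h2
      rcases (Nat.dvd_prime Nat.prime_three).1 h3 with h4 | h4
      · exact orderOf_eq_one_iff.1 h4
      · exact absurd (h4 ▸ dvd_rfl) hx

/-- **The row `Sz(32) : 5`.** -/
theorem ssz32 : SSz32.{u} := by
  rintro p _ G _ _ S M B P hS hyp - ⟨hPS, rfl, F, _, _, hF, ⟨e⟩⟩
  have hF' : Fintype.card F = 2 ^ (2 * 2 + 1) := by rw [hF]; norm_num
  have h8 : (2 : ℕ) ^ (2 + 1) = 8 := by norm_num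
  obtain ⟨f⟩ : Nonempty (Sz F 2 ≃* Cfsg.Lie.Sz F 8) := h8 ▸
    Cfsg.Agent.OddCyclic.ClaimC.SzIso.iso (F := F) (m := 2) (by norm_num) hF'
  have ho : Nat.card (Cfsg.Out ↥(Cfsg.Lie.Sz F (2 ^ (2 + 1)))) = 2 * 2 + 1 :=
    Cfsg.Agent.S2126.result (by norm_num) hF'
  rw [h8] at ho
  have hc : Nat.card (Cfsg.Lie.Sz F 8) = 5 ^ 2 * 1301504 := by
    rw [← Nat.card_congr f.toEquiv, H261.TI.sz_card hF]
    norm_num
  have hfin : Finite (Cfsg.Lie.Sz F 8) := Nat.finite_of_card_ne_zero (by rw [hc]; norm_num)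
  have h2 : (Nat.card (Cfsg.Lie.Sz F 8)).factorization 5 = 2 := by
    rw [hc, Nat.factorization_mul (by norm_num) (by norm_num), Nat.factorization_pow, Finsupp.add_apply,
      Finsupp.smul_apply, Nat.prime_five.factorization_self,
      Nat.factorization_eq_zero_of_not_dvd (by norm_num : ¬ 5 ∣ 1301504)]
    rfl
  refine concl_row P hS hyp hPS e ho h2 fun w x hw hwx hx => ?_
  obtain ⟨V, -, -, hV, hcent, -⟩ := H261.TI.exists_torus hF f.symm
  have hVp : IsPGroup 5 V := IsPGroup.of_card (n := 2) hV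
  obtain ⟨R, hR⟩ := (IsPGroup.of_card (n := 1) (G := zpowers w) (by rw [Nat.card_zpowers, hw, pow_one])).exists_le_sylow
  obtain ⟨g, hg⟩ := MulAction.exists_smul_eq (Cfsg.Lie.Sz F 8) R (Sylow.ofCard V (by rw [hV, h2]; norm_num))
  have h3 : g * w * g⁻¹ ∈ V := by
    have h4 : g * w * g⁻¹ ∈ ((g • R : Sylow 5 (Cfsg.Lie.Sz F 8)) : Subgroup (Cfsg.Lie.Sz F 8)) :=
      ⟨w, hR (mem_zpowers w), rfl⟩
    rwa [hg] at h4
  have h4 : g * x * g⁻¹ ∈ V := by
    refine hcent _ h3 (fun h => ?_) _ ?_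
    · rw [conj_eq_one_iff] at h
      rw [h, orderOf_one] at hw
      omega
    · calc g * x * g⁻¹ * (g * w * g⁻¹) = g * (x * w) * g⁻¹ := by group
        _ = _ := by rw [← hwx]; group
  obtain ⟨k, hk⟩ := pow_eq_one_of_mem hVp h4
  rw [conj_pow, conj_eq_one_iff] at hk
  exact eq_one_of_pow hk hx

end Cfsg.Agent.TID.Ip
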