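import Cfsg.Agent.TID.Syl.Cover
import Cfsg.Agent.TID.Basic
import Cfsg.Agent.H692.Cliff
import Cfsg.Agent.H649.MonoV
import Cfsg.Agent.H418.CC.Heis
import Cfsg.Agent.CharDeep.DegreeBound

/-!
# S4622, normal subgroups of index `p`: counting characters (helper31)

* `idx` : `p |A| + k₁ = |A'| + p ^ 2 k₁` for a set `A` of characters of `p'`-degree of `L` and the set `A'` of the
  characters over `A`, `k₁` the number of the members of `A'` of degree divisible by `p`;
* `Ov`, `ov_iff` : central characters.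
-/

set_option autoImplicit false

namespace Cfsg.Agent.TID.Ip

open Cfsg Subgroup Cfsg.Agent.Characters.Core Cfsg.Agent.Characters
open Cfsg.Agent.TID.Syl (nu)
open scoped ComplexConjugate

universe u v

variable {p : ℕ} [hp : Fact p.Prime]

section idx

variable {X : Type u} [Group X] [Finite X] (L : Subgroup X)

/-- `θ` is a constituent of the restriction of `χ` -/
def Con (χ : IrrCharacter X) (θ : IrrCharacter L) : Prop :=
  haveI := Fintype.ofFinite L
  classInner (fun n : L => (χ : X → ℂ) n) (θ : L → ℂ) ≠ 0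

theorem con_iff [Fintype L] (χ : IrrCharacter X) (θ : IrrCharacter L) :
    Con L χ θ ↔ classInner (fun n : L => (χ : X → ℂ) n) (θ : L → ℂ) ≠ 0 := by
  unfold Con
  rw [Subsingleton.elim (Fintype.ofFinite L) ‹Fintype L›]

theorem deg_pos {Y : Type v} [Group Y] [Finite Y] (χ : IrrCharacter Y) : 0 < charDegree (χ : Y → ℂ) :=
  Blocks.Basic.charDegree_pos χ.2

variable {L}

/-- the degrees -/
theorem Con.deg [L.Normal] (hi : L.index = p) {χ : IrrCharacter X} {θ : IrrCharacter L} (h : Con L χ θ) :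
    charDegree (χ : X → ℂ) = charDegree (θ : L → ℂ) ∨ charDegree (χ : X → ℂ) = p * charDegree (θ : L → ℂ) := by
  have := Fintype.ofFinite X
  have := Fintype.ofFinite L
  rw [con_iff] at h
  obtain ⟨e, he⟩ := classInner_isNat (isCharacter_comp L.subtype (isIrr_isCharacter χ.2)) (isIrr_isCharacter θ.2)
  have he' : classInner (fun n : L => (χ : X → ℂ) n) (θ : L → ℂ) = e := he
  obtain ⟨h1, h2⟩ := H692.Cliff.degree_formula_nat L θ.2 χ.2 (e := e)
    (fun h0 => h (by rw [he', h0, Nat.cast_zero])) he'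
  rw [hi] at h2
  rcases (Nat.dvd_prime hp.out).1 h2 with h3 | h3
  · left; rw [h1, h3, one_mul]
  · right; rw [h1, h3]

theorem Con.nu [L.Normal] (hi : L.index = p) {χ : IrrCharacter X} {θ : IrrCharacter L} (h : Con L χ θ) :
    nu p (χ : X → ℂ) = nu p (θ : L → ℂ) ∨ nu p (χ : X → ℂ) = nu p (θ : L → ℂ) + 1 := by
  unfold Syl.nu
  rcases h.deg hi with h1 | h1
  · left; rw [h1]
  · right
    rw [h1, Nat.factorization_mul hp.out.ne_zero (deg_pos θ).ne', Finsupp.add_apply, hp.out.factorization_self, add_comm]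

theorem Con.deg_eq [L.Normal] (hi : L.index = p) {χ : IrrCharacter X} {θ : IrrCharacter L} (h : Con L χ θ)
    (h0 : Syl.nu p (θ : L → ℂ) = 0) :
    Syl.nu p (χ : X → ℂ) ≤ 1 ∧ charDegree (χ : X → ℂ) = p ^ Syl.nu p (χ : X → ℂ) * charDegree (θ : L → ℂ) := by
  unfold Syl.nu at h0 ⊢
  rcases h.deg hi with h1 | h1
  · rw [h1, h0, pow_zero, one_mul]
    exact ⟨zero_le_one, rfl⟩
  · rw [h1, Nat.factorization_mul hp.out.ne_zero (deg_pos θ).ne', Finsupp.add_apply, hp.out.factorization_self, h0,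
      pow_one]
    exact ⟨le_rfl, rfl⟩

/-- **The count.** -/
theorem idx [L.Normal] (hi : L.index = p) (A' : IrrCharacter X → Prop) (A : IrrCharacter L → Prop)
    (hA : ∀ θ, A θ → nu p (θ : L → ℂ) = 0) (h : ∀ χ θ, Con L χ θ → (A' χ ↔ A θ)) :
    (∀ χ, A' χ → nu p (χ : X → ℂ) ≤ 1) ∧
      p * Nat.card {θ // A θ} + Nat.card {χ // A' χ ∧ nu p (χ : X → ℂ) = 1} =
        Nat.card {χ // A' χ} + p ^ 2 * Nat.card {χ // A' χ ∧ nu p (χ : X → ℂ) = 1} := by
  classical
  have := Fintype.ofFinite X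
  have := Fintype.ofFinite L
  have := finite_irr (G := X)
  have := finite_irr (G := L)
  have := Fintype.ofFinite (IrrCharacter X)
  have := Fintype.ofFinite (IrrCharacter L)
  have hres : ∀ χ : IrrCharacter X, IsCharacter L fun n : L => (χ : X → ℂ) n := fun χ =>
    isCharacter_comp L.subtype (isIrr_isCharacter χ.2)
  choose m hm using fun χ : IrrCharacter X => exists_nat_comb (hres χ)
  have hmi : ∀ (χ : IrrCharacter X) (θ : IrrCharacter L), classInner (fun n : L => (χ : X → ℂ) n) (θ : L → ℂ) = m χ θ := fun χ θ => by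
    rw [hm χ, classInner_sum_nsmul_irr]
  have hcon : ∀ χ θ, m χ θ ≠ 0 → Con L χ θ := fun χ θ h0 => (con_iff L χ θ).2 (by rw [hmi]; exact_mod_cast h0)
  have F1 : ∀ χ : IrrCharacter X, ∑ θ, m χ θ * charDegree (θ : L → ℂ) = charDegree (χ : X → ℂ) := by
    intro χ
    have h1 := congrFun (hm χ) 1
    rw [OneMemClass.coe_one, H418.CC.charDegree_eq (isIrr_isCharacter χ.2), Finset.sum_apply] at h1
    apply Nat.cast_injective (R := ℂ)
    rw [h1, Nat.cast_sum]
    refine Finset.sum_congr rfl fun θ _ => ?_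
    rw [Pi.smul_apply, H418.CC.charDegree_eq (isIrr_isCharacter θ.2), nsmul_eq_mul, Nat.cast_mul]
  have F2 : ∀ θ : IrrCharacter L, ∑ χ, m χ θ * charDegree (χ : X → ℂ) = p * charDegree (θ : L → ℂ) := by
    intro θ
    have h1 := congrFun (classFunction_eq_sum (Brauer.indFun_isClassFunction L (θ : L → ℂ))) 1
    rw [H649.MN.indFun_one, hi, H418.CC.charDegree_eq (isIrr_isCharacter θ.2), Finset.sum_apply] at h1
    apply Nat.cast_injective (R := ℂ)
    rw [Nat.cast_mul, h1, Nat.cast_sum]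
    refine Finset.sum_congr rfl fun χ _ => ?_
    rw [Pi.smul_apply, H418.CC.charDegree_eq (isIrr_isCharacter χ.2), smul_eq_mul, Nat.cast_mul,
      Brauer.classInner_indFun _ _ _ _ (isIrr_isClassFunction χ.2), ← classInner_conj_symm, hmi, Complex.conj_natCast]
  have hle : ∀ χ, A' χ → nu p (χ : X → ℂ) ≤ 1 := by
    intro χ hχ
    by_contra hcon'
    have h1 := F1 χ
    rw [Finset.sum_eq_zero fun θ _ => ?_] at h1
    · exact (deg_pos χ).ne h1
    · by_contra h2
      have h3 := hcon χ θ (left_ne_zero_of_mul h2)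
      exact hcon' (h3.deg_eq hi (hA θ ((h χ θ h3).1 hχ))).1
  refine ⟨hle, ?_⟩
  have G1 : ∀ θ, A θ → ∑ χ ∈ Finset.univ.filter A', m χ θ * p ^ nu p (χ : X → ℂ) = p := by
    intro θ hθ
    refine Nat.eq_of_mul_eq_mul_right (deg_pos θ) ?_
    rw [← F2 θ, Finset.sum_mul, Finset.sum_filter]
    refine Finset.sum_congr rfl fun χ _ => ?_
    rcases eq_or_ne (m χ θ) 0 with h0 | h0
    · simp [h0]
    · rw [if_pos ((h χ θ (hcon χ θ h0)).2 hθ), mul_assoc, ← ((hcon χ θ h0).deg_eq hi (hA θ hθ)).2]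
  have G2 : ∀ χ, A' χ → ∑ θ ∈ Finset.univ.filter A, m χ θ = p ^ nu p (χ : X → ℂ) := by
    intro χ hχ
    refine Nat.eq_of_mul_eq_mul_right (deg_pos χ) ?_
    conv_rhs => rw [← F1 χ]
    rw [Finset.sum_mul, Finset.mul_sum, Finset.sum_filter]
    refine Finset.sum_congr rfl fun θ _ => ?_
    rcases eq_or_ne (m χ θ) 0 with h0 | h0
    · simp [h0]
    · have h1 := (h χ θ (hcon χ θ h0)).1 hχ
      rw [if_pos h1, mul_left_comm, ← ((hcon χ θ h0).deg_eq hi (hA θ h1)).2]
  have G3 : p * (Finset.univ.filter A).card =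
      ∑ χ ∈ Finset.univ.filter A', p ^ nu p (χ : X → ℂ) * p ^ nu p (χ : X → ℂ) := by
    rw [mul_comm, ← smul_eq_mul, ← Finset.sum_const,
      Finset.sum_congr rfl fun θ hθ => (G1 θ (Finset.mem_filter.1 hθ).2).symm, Finset.sum_comm]
    refine Finset.sum_congr rfl fun χ hχ => ?_
    rw [← Finset.sum_mul, G2 χ (Finset.mem_filter.1 hχ).2]
  have G4 : ∀ χ ∈ Finset.univ.filter A', p ^ nu p (χ : X → ℂ) * p ^ nu p (χ : X → ℂ) +
      (if nu p (χ : X → ℂ) = 1 then 1 else 0) = 1 + p ^ 2 * if nu p (χ : X → ℂ) = 1 then 1 else 0 := by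
    intro χ hχ
    have h1 := hle χ (Finset.mem_filter.1 hχ).2
    rcases Nat.le_one_iff_eq_zero_or_eq_one.1 h1 with h2 | h2 <;> rw [h2]
    · simp
    · rw [if_pos rfl]; ring
  have G5 := Finset.sum_congr rfl G4
  rw [Finset.sum_add_distrib, Finset.sum_add_distrib, ← G3, ← Finset.mul_sum, ← Finset.card_filter, Finset.filter_filter,
    Finset.sum_const, smul_eq_mul, mul_one] at G5
  rw [Nat.card_eq_fintype_card, Nat.card_eq_fintype_card, Nat.card_eq_fintype_card, Fintype.card_subtype,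
    Fintype.card_subtype, Fintype.card_subtype]
  exact G5

end idx

section ov

variable {G : Type u} [Group G] {Z : Subgroup G}

/-- `ψ` lies over the linear character `c` of `Z` -/
def Ov {Y : Type v} [Group Y] (ι : Y →* G) (c : Z →* ℂˣ) (ψ : Y → ℂ) : Prop :=
  ∀ (y w : Y) (hw : ι w ∈ Z), ψ (y * w) = ψ y * c ⟨ι w, hw⟩

theorem ov_iff {X : Type v} [Group X] [Finite X] {ι : X →* G} {L : Subgroup X} (hZ : ∀ w, ι w ∈ Z → w ∈ center X ∧ w ∈ L)
    (c : Z →* ℂˣ) {χ : IrrCharacter X} {θ : IrrCharacter L} (h : Con L χ θ) :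
    Ov ι c (χ : X → ℂ) ↔ Ov (ι.comp L.subtype) c (θ : L → ℂ) := by
  have := Fintype.ofFinite X
  have := Fintype.ofFinite L
  rw [con_iff] at h
  have key : ∀ w : L, ι w ∈ Z → ∃ a : ℂ, (∀ y, (χ : X → ℂ) (y * w) = a * (χ : X → ℂ) y) ∧
      ∀ y, (θ : L → ℂ) (y * w) = a * (θ : L → ℂ) y := by
    intro w hw
    obtain ⟨a, -, ha⟩ := CharDeep.DegreeBound.exists_omega χ.2 (hZ w hw).1
    obtain ⟨b, hb1, hb⟩ := CharDeep.DegreeBound.exists_omega θ.2 (z := w)
      (mem_center_iff.2 fun y => Subtype.ext (mem_center_iff.1 (hZ w hw).1 y))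
    have h1 : classInner (fun n : L => (χ : X → ℂ) n) (θ : L → ℂ) =
        a * conj b * classInner (fun n : L => (χ : X → ℂ) n) (θ : L → ℂ) := by
      rw [classInner_def, mul_left_comm]
      congr 1
      rw [Finset.mul_sum, ← Equiv.sum_comp (Equiv.mulRight w) fun y : L => (χ : X → ℂ) y * conj ((θ : L → ℂ) y)]
      refine Finset.sum_congr rfl fun y _ => ?_
      rw [Equiv.coe_mulRight, coe_mul, ha, hb, map_mul]
      ring
    have h2 : a * conj b = 1 := (mul_eq_right₀ h).1 h1.symm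
    have h3 : conj b * b = 1 := by
      rw [Complex.conj_mul', hb1]
      norm_num
    have h4 : a = b := by
      calc a = a * (conj b * b) := by rw [h3, mul_one]
        _ = b := by rw [← mul_assoc, h2, one_mul]
    exact ⟨a, ha, h4 ▸ hb⟩
  constructor
  · intro h1 y w hw
    obtain ⟨a, ha, hb⟩ := key w hw
    have h2 := (h1 1 w hw).symm.trans (ha 1)
    rw [mul_comm a] at h2
    rw [hb, mul_comm, ← mul_left_cancel₀ (isIrr_apply_one_ne_zero χ.2) h2]
    rfl
  · intro h1 y w hw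
    obtain ⟨a, ha, hb⟩ := key ⟨w, (hZ w hw).2⟩ hw
    have h2 := (h1 1 ⟨w, (hZ w hw).2⟩ hw).symm.trans (hb 1)
    rw [mul_comm a] at h2
    rw [ha, mul_comm, ← mul_left_cancel₀ (isIrr_apply_one_ne_zero θ.2) h2]
    rfl

end ov

end Cfsg.Agent.TID.Ip
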